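import Groth.Agent.L18.PBundle.Coprod
import Groth.Agent.L03.Euler.Push
import Groth.Agent.L16.CohClosedPush
import Groth.Agent.L16.AffineBC.Local
import Groth.Agent.L16.Devissage
import Groth.Agent.L21.RR.BaseChange

/-!
A module on the disjoint union of two open subschemes, and its Euler characteristic.
-/

set_option autoImplicit false
set_option backward.isDefEq.respectTransparency false
set_option linter.style.haveILetI false
set_option linter.unusedSectionVars false

universe u

open CategoryTheory CategoryTheory.Limits AlgebraicGeometry TopologicalSpace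

noncomputable section

namespace Groth.L02.EtEuler

open Groth.L16 Groth.L03.Euler

variable {A C P : Scheme.{u}} (i : A ⟶ P) (j : C ⟶ P) [IsOpenImmersion i] [IsOpenImmersion j]

include i j in
/-- A module is the sum of its two restrictions. -/
theorem nonempty_iso_biprod (h : IsCompl (Set.range i) (Set.range j)) (M : P.Modules) :
    Nonempty (M ≅ (Scheme.Modules.pushforward i).obj ((Scheme.Modules.pullback i).obj M) ⊞
      (Scheme.Modules.pushforward j).obj ((Scheme.Modules.pullback j).obj M)) := by
  have hiso : IsIso (biprod.lift ((Scheme.Modules.restrictAdjunction i).unit.app M)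
      ((Scheme.Modules.restrictAdjunction j).unit.app M)) := by
    refine Groth.L18.IsoCover.isIso_of_bijective _ (fun b : Bool => cond b i.opensRange j.opensRange)
      (fun z => ?_) fun b V hV => ?_
    · rcases (h.codisjoint.top_le (show z ∈ (⊤ : Set P) from trivial) : z ∈ Set.range i ∪ Set.range j) with hz | hz
      · exact ⟨true, hz⟩
      · exact ⟨false, hz⟩
    cases b with
    | true =>
      haveI : Subsingleton Γ((Scheme.Modules.restrictFunctor j ⋙ Scheme.Modules.pushforward j).obj M, V) :=
        Groth.L18.PBundle.subsingleton_push_of_disjoint j ((Scheme.Modules.restrictFunctor j).obj M) V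
        (le_bot_iff.1 fun x hx => (Set.disjoint_left.1 h.disjoint (hV hx) ⟨x, rfl⟩).elim)
      exact (Groth.L18.PBundle.bijective_lift_of_subsingleton _ _ V
        (Groth.L18.PBundle.unit_restrict_bijective _ M V hV)).1
    | false =>
      haveI : Subsingleton Γ((Scheme.Modules.restrictFunctor i ⋙ Scheme.Modules.pushforward i).obj M, V) :=
        Groth.L18.PBundle.subsingleton_push_of_disjoint i ((Scheme.Modules.restrictFunctor i).obj M) V
        (le_bot_iff.1 fun x hx => (Set.disjoint_left.1 h.disjoint ⟨x, rfl⟩ (hV hx)).elim)
      exact (Groth.L18.PBundle.bijective_lift_of_subsingleton _ _ V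
        (Groth.L18.PBundle.unit_restrict_bijective _ M V hV)).2
  haveI := hiso
  exact ⟨asIso (biprod.lift ((Scheme.Modules.restrictAdjunction i).unit.app M)
      ((Scheme.Modules.restrictAdjunction j).unit.app M)) ≪≫
    biprod.mapIso ((Scheme.Modules.pushforward i).mapIso ((Scheme.Modules.restrictFunctorIsoPullback i).app M))
      ((Scheme.Modules.pushforward j).mapIso ((Scheme.Modules.restrictFunctorIsoPullback j).app M))⟩

variable (k : Type u) [Field k] [P.Over (Spec (CommRingCat.of k))] [IsProper (P ↘ Spec (CommRingCat.of k))]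
  [A.Over (Spec (CommRingCat.of k))] [C.Over (Spec (CommRingCat.of k))]
  [IsClosedImmersion i] [IsClosedImmersion j]

include i j in
/-- Euler characteristics add up over a disjoint union. -/
theorem euler_clopen (h : IsCompl (Set.range i) (Set.range j))
    (hi : i ≫ (P ↘ Spec (CommRingCat.of k)) = A ↘ Spec (CommRingCat.of k))
    (hj : j ≫ (P ↘ Spec (CommRingCat.of k)) = C ↘ Spec (CommRingCat.of k))
    {M : P.Modules} (hM : Coh.IsCoh M) :
    Curv2.euler k P M = Curv2.euler k A ((Scheme.Modules.pullback i).obj M) +
      Curv2.euler k C ((Scheme.Modules.pullback j).obj M) := by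
  haveI := Groth.L21.RR.isNoetherian_of_proper (X := P) k
  haveI : P.IsSeparated := ⟨by rw [← terminal.comp_from (P ↘ Spec (CommRingCat.of k))]; infer_instance⟩
  haveI : IsLocallyNoetherian A := LocallyOfFiniteType.isLocallyNoetherian i
  haveI : IsLocallyNoetherian C := LocallyOfFiniteType.isLocallyNoetherian j
  obtain ⟨e⟩ := nonempty_iso_biprod i j h M
  have hA := Groth.L16.AffineBC.isCoh_pullback i hM
  have hC := Groth.L16.AffineBC.isCoh_pullback j hM
  have hA' := euler_push i _ hA.1 hi
  have hC' := euler_push j _ hC.1 hj
  have cA : Coh.IsCoh ((Coh.push i).obj ((Scheme.Modules.pullback i).obj M)) := CohClosedPush.isCoh_push i hA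
  have cC : Coh.IsCoh ((Coh.push j).obj ((Scheme.Modules.pullback j).obj M)) := CohClosedPush.isCoh_push j hC
  have key : ∀ (Q R : P.Modules), Coh.IsCoh Q → Coh.IsCoh R →
      Curv2.euler k P (Q ⊞ R) = Curv2.euler k P Q + Curv2.euler k P R := fun Q R hQ hR =>
    euler_add (k := k) (S := ShortComplex.mk (biprod.inl : Q ⟶ Q ⊞ R) biprod.snd biprod.inl_snd)
      (ShortComplex.Splitting.mk biprod.fst biprod.inr (by simp) (by simp) (by simp [biprod.total])).shortExact
      hQ (Devissage.isCoh_biprod hQ hR) hR
  rw [euler_iso e, ← hA', ← hC']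
  exact key _ _ cA cC

end Groth.L02.EtEuler
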