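import Groth.Agent.L02.EtEuler.Rank
import Groth.Agent.L17.FlatBase.DegZero
import Groth.Agent.L17.FSheaf.ComplMonoEpi
import Groth.Agent.L17.FlatBase.CxTools
import Groth.Agent.L16.Exist.PropSupp
import Groth.Agent.L16.Rees.FiniteAmple
import Groth.Prelude.Def_Mor2

/-!
Euler characteristic is multiplicative in finite étale covers.
-/

set_option autoImplicit false
set_option backward.isDefEq.respectTransparency false
set_option linter.style.haveILetI false
set_option linter.unusedSectionVars false

universe u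

open CategoryTheory CategoryTheory.Limits AlgebraicGeometry TopologicalSpace

noncomputable section

namespace Groth.L02.EtEuler

open Groth.L16 Groth.L03.Euler

variable (k : Type u) [Field k]

/-- The defect of multiplicativity. -/
def defect {Y B : Scheme.{u}} [Y.Over (Spec (CommRingCat.of k))] [B.Over (Spec (CommRingCat.of k))]
    (ψ : Y ⟶ B) (d : ℕ) (F : B.Modules) : ℤ :=
  Curv2.euler k Y ((Scheme.Modules.pullback ψ).obj F) - d * Curv2.euler k B F

variable {k}

theorem defect_add {Y B : Scheme.{u}} [Y.Over (Spec (CommRingCat.of k))] [B.Over (Spec (CommRingCat.of k))]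
    [IsProper (Y ↘ Spec (CommRingCat.of k))] [IsProper (B ↘ Spec (CommRingCat.of k))] (ψ : Y ⟶ B) [Flat ψ]
    (d : ℕ) {S : ShortComplex B.Modules} (hS : S.ShortExact) (c₁ : Coh.IsCoh S.X₁) (c₂ : Coh.IsCoh S.X₂)
    (c₃ : Coh.IsCoh S.X₃) : defect k ψ d S.X₂ = defect k ψ d S.X₁ + defect k ψ d S.X₃ := by
  haveI := Groth.L21.RR.isNoetherian_of_proper (X := B) k
  haveI := Groth.L21.RR.isNoetherian_of_proper (X := Y) k
  haveI := Groth.L17.CxTools.preservesFiniteLimits_pullback ψ
  haveI := (Scheme.Modules.pullbackPushforwardAdjunction ψ).isLeftAdjoint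
  have hS' : (S.map (Scheme.Modules.pullback ψ)).ShortExact := hS.map_of_exact (Scheme.Modules.pullback ψ)
  have h1 := euler_add (k := k) hS c₁ c₂ c₃
  have h2 := euler_add (k := k) (S := S.map (Scheme.Modules.pullback ψ)) hS'
    (Groth.L16.AffineBC.isCoh_pullback ψ c₁)
    (Groth.L16.AffineBC.isCoh_pullback ψ c₂) (Groth.L16.AffineBC.isCoh_pullback ψ c₃)
  change Curv2.euler k Y ((Scheme.Modules.pullback ψ).obj S.X₂) =
    Curv2.euler k Y ((Scheme.Modules.pullback ψ).obj S.X₁) +
      Curv2.euler k Y ((Scheme.Modules.pullback ψ).obj S.X₃) at h2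
  unfold defect
  rw [h1, h2]
  ring

theorem defect_congr {Y B : Scheme.{u}} [Y.Over (Spec (CommRingCat.of k))] [B.Over (Spec (CommRingCat.of k))]
    (ψ : Y ⟶ B) (d : ℕ) {M N : B.Modules} (e : M ≅ N) : defect k ψ d M = defect k ψ d N := by
  unfold defect
  rw [euler_iso e, euler_iso ((Scheme.Modules.pullback ψ).mapIso e)]

theorem defect_of_isZero {Y B : Scheme.{u}} [Y.Over (Spec (CommRingCat.of k))] [B.Over (Spec (CommRingCat.of k))]
    (ψ : Y ⟶ B) (d : ℕ) {M : B.Modules} (h : IsZero M) : defect k ψ d M = 0 := by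
  haveI := (Scheme.Modules.pullbackPushforwardAdjunction ψ).isLeftAdjoint
  unfold defect
  rw [euler_of_isZero h, euler_of_isZero ((Scheme.Modules.pullback ψ).map_isZero h)]
  ring

/-- The defect vanishes when it vanishes on push forwards from the cover. -/
theorem defect_eq_zero {Y B : Scheme.{u}} [Y.Over (Spec (CommRingCat.of k))] [B.Over (Spec (CommRingCat.of k))]
    [IsProper (Y ↘ Spec (CommRingCat.of k))] [IsProper (B ↘ Spec (CommRingCat.of k))] (ψ : Y ⟶ B) [IsFinite ψ]
    [Flat ψ] [Surjective ψ] {d : ℕ}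
    (hpush : ∀ M : Y.Modules, Coh.IsCoh M → defect k ψ d ((Coh.push ψ).obj M) = 0)
    {F : B.Modules} (hF : Coh.IsCoh F) : defect k ψ d F = 0 := by
  classical
  haveI := Groth.L21.RR.isNoetherian_of_proper (X := B) k
  haveI := Groth.L21.RR.isNoetherian_of_proper (X := Y) k
  have hadd : ∀ S : ShortComplex B.Modules, S.ShortExact → Coh.IsCoh S.X₁ → Coh.IsCoh S.X₂ → Coh.IsCoh S.X₃ →
      defect k ψ d S.X₂ = defect k ψ d S.X₁ + defect k ψ d S.X₃ := fun S hS c₁ c₂ c₃ => defect_add ψ d hS c₁ c₂ c₃
  have hiso : ∀ M N : B.Modules, Nonempty (M ≅ N) → defect k ψ d M = defect k ψ d N := fun M N ⟨e⟩ =>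
    defect_congr ψ d e
  have hzero : ∀ M : B.Modules, IsZero M → defect k ψ d M = 0 := fun M h => defect_of_isZero ψ d h
  suffices ∀ T : Closeds B, ∀ M : B.Modules, Coh.IsCoh M → CohB1.support M ⊆ (T : Set B) → defect k ψ d M = 0 from
    this ⟨Set.univ, isClosed_univ⟩ F hF (Set.subset_univ _)
  intro T
  induction T using WellFoundedLT.induction with
  | ind T IH =>
    intro M hM hs
    refine Devissage.devissage (fun M : B.Modules => defect k ψ d M = 0) T.isClosed
      (fun M N e h => (hiso M N e).symm.trans h) hzero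
      (fun S hS c₁ c₂ c₃ _ => by
        have := hadd S hS c₁ c₂ c₃
        refine ⟨fun a b => ?_, fun a b => ?_, fun a b => ?_⟩ <;> linarith) (fun y hy => ?_) hM hs
    obtain ⟨Z, i, hi, hZ, hgen, hrange⟩ := CohClosedPush.exists_integral y
    haveI := hi; haveI := hZ
    haveI : IsLocallyNoetherian Z := LocallyOfFiniteType.isLocallyNoetherian i
    let O := (Coh.push i).obj (Coh.structureModule Z)
    have hO : Coh.IsCoh O := CohClosedPush.isCoh_push i CohClosedPush.isCoh_structure
    have hlO : CohSupport.len y O = 1 := hgen ▸ CohClosedPush.len_push_structure i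
    have hsO : CohB1.support O ⊆ closure {y} := (CohClosedPush.support_push_subset i _).trans hrange.le
    refine ⟨O, hO, ?_, hsO, hlO⟩
    -- lengths are finite on the closure
    have hne : ∀ K : B.Modules, Coh.IsCoh K → CohB1.support K ⊆ closure {y} → CohSupport.len y K ≠ ⊤ :=
      fun K hK hsK => CohSupport.len_ne_top hK fun z hz hzy =>
        (hzy.antisymm (specializes_iff_mem_closure.2 (hsK hz))).eq
    have key : ∀ K : B.Modules, Coh.IsCoh K → CohB1.support K ⊆ closure {y} →
        defect k ψ d K = ((CohSupport.len y K).toNat : ℤ) * defect k ψ d O := by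
      intro K hK hsK
      refine Devissage.devissage (fun K : B.Modules => CohB1.support K ⊆ closure {y} →
        defect k ψ d K = ((CohSupport.len y K).toNat : ℤ) * defect k ψ d O) (isClosed_closure (s := ({y} : Set B)))
        (fun A C e h hC => ?_) (fun A h _ => ?_) (fun S hS c₁ c₂ c₃ hs₂ => ?_) (fun z hz => ?_) hK hsK hsK
      · obtain ⟨e⟩ := e
        rw [← hiso A C ⟨e⟩, ← CohSupport.len_congr e]
        refine h fun x hx => hC ?_
        rw [← not_not (a := x ∈ CohB1.support C), ← CohSupport.len_eq_zero_iff, ← CohSupport.len_congr e,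
          CohSupport.len_eq_zero_iff, not_not]
        exact hx
      · rw [hzero A h, (CohSupport.len_eq_zero_iff y A).2 fun hy' => hy' ?_, ENat.toNat_zero, Nat.cast_zero, zero_mul]
        exact ModuleCat.subsingleton_of_isZero ((Groth.L00.Stk.F B y).map_isZero h)
      · have hs₁ : CohB1.support S.X₁ ⊆ closure {y} := fun x hx => hs₂ fun h2 => by
          have h := CohSupport.len_add hS x
          rw [(CohSupport.len_eq_zero_iff x S.X₂).2 fun hh => hh h2] at h
          exact (CohSupport.len_eq_zero_iff x S.X₁).1 (add_eq_zero.1 h.symm).1 hx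
        have hs₃ : CohB1.support S.X₃ ⊆ closure {y} := fun x hx => hs₂ fun h2 => by
          have h := CohSupport.len_add hS x
          rw [(CohSupport.len_eq_zero_iff x S.X₂).2 fun hh => hh h2] at h
          exact (CohSupport.len_eq_zero_iff x S.X₃).1 (add_eq_zero.1 h.symm).2 hx
        have hl : ((CohSupport.len y S.X₂).toNat : ℤ) =
            (CohSupport.len y S.X₁).toNat + (CohSupport.len y S.X₃).toNat := by
          rw [CohSupport.len_add hS y, ENat.toNat_add (hne _ c₁ hs₁) (hne _ c₃ hs₃)]
          push_cast; ring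
        have hd := hadd S hS c₁ c₂ c₃
        refine ⟨fun a b _ => ?_, fun a b _ => ?_, fun a b _ => ?_⟩
        · have a' := a hs₁; have b' := b hs₂
          rw [hd, a', hl] at b'; linarith
        · rw [hd, a hs₁, b hs₃, hl]; ring
        · have a' := a hs₂; have b' := b hs₃
          rw [hd, b', hl] at a'; linarith
      · by_cases hzy : z = y
        · subst hzy
          exact ⟨O, hO, fun _ => by rw [hlO, ENat.toNat_one, Nat.cast_one, one_mul], hsO, hlO⟩
        obtain ⟨Z', i', hi', hZ', hgen', hrange'⟩ := CohClosedPush.exists_integral z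
        haveI := hi'; haveI := hZ'
        haveI : IsLocallyNoetherian Z' := LocallyOfFiniteType.isLocallyNoetherian i'
        have hsG : CohB1.support ((Coh.push i').obj (Coh.structureModule Z')) ⊆ closure {z} :=
          (CohClosedPush.support_push_subset i' _).trans hrange'.le
        have hG : Coh.IsCoh ((Coh.push i').obj (Coh.structureModule Z')) :=
          CohClosedPush.isCoh_push i' CohClosedPush.isCoh_structure
        refine ⟨_, hG, fun _ => ?_, hsG, hgen' ▸ CohClosedPush.len_push_structure i'⟩
        have hyz : y ∉ closure ({z} : Set B) := fun h =>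
          hzy (((specializes_iff_mem_closure.2 h).antisymm (specializes_iff_mem_closure.2 hz))).eq
        rw [(CohSupport.len_eq_zero_iff y _).2 fun h => hyz (hsG h), ENat.toNat_zero, Nat.cast_zero, zero_mul]
        exact IH ⟨closure {z}, isClosed_closure⟩ (lt_of_le_of_ne
          (closure_minimal (Set.singleton_subset_iff.2 ((closure_minimal (Set.singleton_subset_iff.2 hy) T.isClosed) hz))
            T.isClosed) fun e => hyz (by
              have : (closure {z} : Set B) = T := congrArg Closeds.carrier e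
              rw [this]; exact hy)) _ hG hsG
    obtain ⟨w, hw⟩ := ψ.surjective y
    obtain ⟨W, j, hj, hW, hgenW, hrangeW⟩ := CohClosedPush.exists_integral w
    haveI := hj; haveI := hW
    haveI : IsLocallyNoetherian W := LocallyOfFiniteType.isLocallyNoetherian j
    let G := (Coh.push ψ).obj ((Coh.push j).obj (Coh.structureModule W))
    have hjO : Coh.IsCoh ((Coh.push j).obj (Coh.structureModule W)) :=
      CohClosedPush.isCoh_push j CohClosedPush.isCoh_structure
    have hG : Coh.IsCoh G := Groth.L16.Exist.isCoh_pushforward ψ hjO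
    have hsG : CohB1.support G ⊆ closure {y} := by
      refine (Groth.L16.Exist.support_push_image ψ hjO).trans ?_
      refine (Set.image_mono ((CohClosedPush.support_push_subset j _).trans hrangeW.le)).trans ?_
      exact (image_closure_subset_closure_image ψ.continuous).trans (by rw [Set.image_singleton, hw])
    have hlG : CohSupport.len y G ≠ 0 := fun h0 => (CohSupport.len_eq_zero_iff y G).1 h0 fun hs => by
      haveI := Groth.L16.Rees.FiniteAmple.nontrivial_stalk_push (j ≫ ψ) (x := y)
        ⟨genericPoint W, by rw [Scheme.Hom.comp_apply, hgenW, hw]⟩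
      exact not_subsingleton_iff_nontrivial.2 this hs
    have h1 := key G hG hsG
    rw [hpush _ hjO] at h1
    refine (mul_eq_zero.1 h1.symm).resolve_left (Nat.cast_ne_zero.2 fun h0 => ?_)
    rcases ENat.toNat_eq_zero.1 h0 with h | h
    · exact hlG h
    · exact hne G hG hsG h

set_option backward.isDefEq.respectTransparency.types false in
/-- `χ(ψ^*F) = d χ(F)` for finite étale `ψ` of degree `d`. -/
theorem euler_pullback_etale : ∀ (d : ℕ) {Y B : Scheme.{u}} [Y.Over (Spec (CommRingCat.of k))]
    [B.Over (Spec (CommRingCat.of k))] [IsProper (Y ↘ Spec (CommRingCat.of k))]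
    [IsProper (B ↘ Spec (CommRingCat.of k))] (ψ : Y ⟶ B) [IsFinite ψ] [Etale ψ],
    ψ ≫ (B ↘ Spec (CommRingCat.of k)) = Y ↘ Spec (CommRingCat.of k) →
    FlatMod.IsFinLocFreeOfRank d ((Coh.push ψ).obj (Coh.structureModule Y)) →
    ∀ F : B.Modules, Coh.IsCoh F →
      Curv2.euler k Y ((Scheme.Modules.pullback ψ).obj F) = d * Curv2.euler k B F := by
  intro d
  induction d with
  | zero =>
    intro Y B _ _ _ _ ψ _ _ hψ hd F hF
    haveI : IsEmpty Y := ⟨fun w => by
      obtain ⟨a⟩ := Groth.L22.CurveDeg.nonempty_stalk_equiv hd (ψ w)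
      haveI := Groth.L16.Rees.FiniteAmple.nontrivial_stalk_push ψ (x := ψ w) ⟨w, rfl⟩
      haveI := a.toEquiv.nontrivial
      exact false_of_nontrivial_of_subsingleton (Fin 0 → B.presheaf.stalk (ψ w))⟩
    rw [euler_of_isZero (Groth.L17.FSheaf.isZero_of_support_eq_empty (Set.eq_empty_of_isEmpty _)), Nat.cast_zero,
      zero_mul]
  | succ d ih =>
    intro Y B _ _ _ _ ψ _ _ hψ hd F hF
    haveI := Groth.L21.RR.isNoetherian_of_proper (X := B) k
    haveI := Groth.L21.RR.isNoetherian_of_proper (X := Y) k
    haveI : Surjective ψ := ⟨fun y => by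
      by_contra hy
      obtain ⟨a⟩ := Groth.L22.CurveDeg.nonempty_stalk_equiv hd y
      haveI := a.symm.toEquiv.nontrivial
      refine hy ?_
      by_contra hy'
      exact hy' ((Set.image_subset_range _ _) (Groth.L16.Exist.support_push_image ψ CohClosedPush.isCoh_structure
        (not_subsingleton _)))⟩
    have key := defect_eq_zero (k := k) ψ (d := d + 1) (fun M hM => ?_) hF
    · exact sub_eq_zero.1 key
    let P := pullback ψ ψ
    let p₁ : P ⟶ Y := pullback.fst ψ ψ
    let p₂ : P ⟶ Y := pullback.snd ψ ψ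
    haveI : IsFinite p₁ := MorphismProperty.pullback_fst ψ ψ inferInstance
    haveI : IsFinite p₂ := MorphismProperty.pullback_snd ψ ψ inferInstance
    haveI : Etale p₁ := MorphismProperty.pullback_fst ψ ψ inferInstance
    letI : P.Over (Spec (CommRingCat.of k)) := ⟨p₁ ≫ (Y ↘ Spec (CommRingCat.of k))⟩
    haveI : IsProper (P ↘ Spec (CommRingCat.of k)) :=
      inferInstanceAs (IsProper (p₁ ≫ (Y ↘ Spec (CommRingCat.of k))))
    haveI := Groth.L21.RR.isNoetherian_of_proper (X := P) k
    have hp₂ : p₂ ≫ (Y ↘ Spec (CommRingCat.of k)) = P ↘ Spec (CommRingCat.of k) := by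
      show _ = p₁ ≫ _
      rw [← hψ, ← Category.assoc, ← Category.assoc, pullback.condition]
    haveI : IsClosedImmersion (pullback.diagonal ψ) := inferInstance
    haveI : IsOpenImmersion (pullback.diagonal ψ) := inferInstance
    let R : P.Opens := ⟨(Set.range (pullback.diagonal ψ))ᶜ, (pullback.diagonal ψ).isClosedMap.isClosed_range.isOpen_compl⟩
    have hRc : IsCompl (Set.range (pullback.diagonal ψ)) (Set.range R.ι) := by
      rw [Scheme.Opens.range_ι]
      exact isCompl_compl
    haveI : IsClosedImmersion R.ι := IsClosedImmersion.of_isPreimmersion _ (by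
      rw [Scheme.Opens.range_ι]
      exact (pullback.diagonal ψ).isOpenEmbedding.isOpen_range.isClosed_compl)
    letI : (R : Scheme.{u}).Over (Spec (CommRingCat.of k)) := ⟨R.ι ≫ (P ↘ Spec (CommRingCat.of k))⟩
    haveI : IsProper ((R : Scheme.{u}) ↘ Spec (CommRingCat.of k)) :=
      inferInstanceAs (IsProper (R.ι ≫ (P ↘ Spec (CommRingCat.of k))))
    haveI : IsFinite (R.ι ≫ p₁) := inferInstance
    haveI : Etale (R.ι ≫ p₁) := inferInstance
    have hrkP : FlatMod.IsFinLocFreeOfRank (d + 1) ((Coh.push p₁).obj (Coh.structureModule P)) :=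
      Groth.L27.Deg.isFinLocFreeOfRank_push p₁ fun y => by
        rw [Scheme.Hom.finrank_pullback_fst]
        exact Groth.L27.Deg.finrank_eq_of_push ψ hd _
    have hrkR := isFinLocFreeOfRank_complement p₁ (pullback.diagonal ψ) R.ι (pullback.diagonal_fst ψ) hRc hrkP
    have hR : Curv2.euler k (R : Scheme.{u}) ((Scheme.Modules.pullback (R.ι ≫ p₁)).obj M) = d * Curv2.euler k Y M :=
      ih (R.ι ≫ p₁) (by rw [Category.assoc]; rfl) hrkR M hM
    have hN := Groth.L16.AffineBC.isCoh_pullback p₁ hM
    have hP := euler_clopen (pullback.diagonal ψ) R.ι k hRc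
      (show pullback.diagonal ψ ≫ p₁ ≫ (Y ↘ Spec (CommRingCat.of k)) = Y ↘ Spec (CommRingCat.of k) by
        rw [← Category.assoc, pullback.diagonal_fst, Category.id_comp]) rfl hN
    haveI : Coh.IsQCoh M := hM.1
    haveI := Groth.L17.DegZero.isIso_of_isAffineHom ψ ψ p₁ p₂ M (IsPullback.of_hasPullback ψ ψ)
    let bc := asIso (((Scheme.Modules.pullbackPushforwardAdjunction ψ).homEquiv _ _).symm
      (Groth.L17.DegZero.vMap ψ ψ p₁ p₂ (IsPullback.of_hasPullback ψ ψ).w M))
    haveI : Y.IsSeparated := ⟨by rw [← terminal.comp_from (Y ↘ Spec (CommRingCat.of k))]; infer_instance⟩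
    haveI : B.IsSeparated := ⟨by rw [← terminal.comp_from (B ↘ Spec (CommRingCat.of k))]; infer_instance⟩
    show Curv2.euler k Y ((Scheme.Modules.pullback ψ).obj ((Scheme.Modules.pushforward ψ).obj M)) -
      ((d + 1 : ℕ) : ℤ) * Curv2.euler k B ((Coh.push ψ).obj M) = 0
    rw [euler_iso bc, euler_push ψ M hM.1 hψ]
    change Curv2.euler k Y ((Coh.push p₂).obj ((Scheme.Modules.pullback p₁).obj M)) - _ = 0
    rw [euler_push p₂ _ hN.1 hp₂, hP,
      euler_iso (show (Scheme.Modules.pullback (pullback.diagonal ψ)).obj ((Scheme.Modules.pullback p₁).obj M) ≅ M from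
        (Scheme.Modules.pullbackComp (pullback.diagonal ψ) p₁).app M ≪≫
        (Scheme.Modules.pullbackCongr (pullback.diagonal_fst ψ)).app M ≪≫ (Scheme.Modules.pullbackId Y).app M),
      euler_iso (show (Scheme.Modules.pullback R.ι).obj ((Scheme.Modules.pullback p₁).obj M) ≅
        (Scheme.Modules.pullback (R.ι ≫ p₁)).obj M from (Scheme.Modules.pullbackComp R.ι p₁).app M), hR]
    push_cast
    ring

end Groth.L02.EtEuler
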