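import Groth.Agent.L02.EtEuler.Clopen
import Groth.Agent.L27.Deg.PushRank
import Groth.Agent.L22.CurveDeg.ZeroDim
import Groth.Agent.L29.LocFree
import Groth.Agent.L16.Devissage
import Groth.Agent.L22.CurveDeg.Maps
import Groth.Agent.L21.Bundle.Results
import Groth.Agent.L18.AmpleGG

/-!
The rank of the push forward of the structure module over a disjoint union with a section.
-/

set_option autoImplicit false
set_option backward.isDefEq.respectTransparency false
set_option linter.style.haveILetI false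
set_option linter.unusedSectionVars false

universe u

open CategoryTheory CategoryTheory.Limits AlgebraicGeometry TopologicalSpace

noncomputable section

namespace Groth.L02.EtEuler

theorem nonempty_stalk_equiv_at {X : Scheme.{u}} {E : X.Modules} {U : X.Opens} {x : X} (hxU : x ∈ U) {n : ℕ}
    (e : E.restrict U.ι ≅ FlatMod.freeMod U n) :
    Nonempty ((Fin n → X.presheaf.stalk x) ≃ₗ[X.presheaf.stalk x] E.presheaf.stalk x) := by
  obtain ⟨s, hs⟩ := Groth.L17.FinLocBases.exists_isBasis E e
  have hU : U.ι ''ᵁ ⊤ = U := (Scheme.Hom.image_top_eq_opensRange U.ι).trans U.opensRange_ι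
  have hb := Groth.L17.PullBasis.bijective_stalk E s hs x (hU.symm ▸ hxU)
  exact ⟨LinearEquiv.ofBijective
    (Fintype.linearCombination (X.presheaf.stalk x)
      fun j => Groth.L00.StalkTensor.germ (Groth.L00.Tensor.pre E) x (hU.symm ▸ hxU) (s j)) hb⟩

/-- The complement of a section in a finite locally free cover has rank one less. -/
theorem isFinLocFreeOfRank_complement {Y P R : Scheme.{u}} (p : P ⟶ Y) (s : Y ⟶ P) (j : R ⟶ P)
    [IsOpenImmersion s] [IsOpenImmersion j] [IsFinite (j ≫ p)] [Flat (j ≫ p)] [LocallyOfFinitePresentation (j ≫ p)]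
    (hs : s ≫ p = 𝟙 Y) (h : IsCompl (Set.range s) (Set.range j)) {d : ℕ}
    (hP : FlatMod.IsFinLocFreeOfRank (d + 1) ((Coh.push p).obj (Coh.structureModule P))) :
    FlatMod.IsFinLocFreeOfRank d ((Coh.push (j ≫ p)).obj (Coh.structureModule R)) := by
  obtain ⟨e⟩ := nonempty_iso_biprod s j h (Coh.structureModule P)
  haveI := (Scheme.Modules.pullbackPushforwardAdjunction p).isRightAdjoint
  haveI : ∀ A B : P.Modules, PreservesBinaryBiproduct A B (Scheme.Modules.pushforward p) := fun A B =>
    preservesBinaryBiproduct_of_preservesBinaryProduct _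
  let φ : (Scheme.Modules.pushforward p).obj (Coh.structureModule P) ≅
      Coh.structureModule Y ⊞ (Scheme.Modules.pushforward (j ≫ p)).obj (Coh.structureModule R) :=
    (Scheme.Modules.pushforward p).mapIso e ≪≫ (Scheme.Modules.pushforward p).mapBiprod _ _ ≪≫
      biprod.mapIso
        ((Scheme.Modules.pushforwardComp s p).app _ ≪≫ (Scheme.Modules.pushforwardCongr hs).app _ ≪≫
          (Scheme.Modules.pushforwardId Y).app _ ≪≫ Groth.L29.LocFree.pullbackUnitIso s)
        ((Scheme.Modules.pushforwardComp j p).app _ ≪≫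
          (Scheme.Modules.pushforward (j ≫ p)).mapIso (Groth.L29.LocFree.pullbackUnitIso j))
  intro y
  obtain ⟨U, m, hy, ⟨eU⟩⟩ := (Groth.L19.FinLocPush.isFinLocFree_push (j ≫ p)
    ⟨inferInstance, inferInstance, inferInstance⟩).2 y
  refine ⟨U, hy, ?_⟩
  obtain ⟨a⟩ := Groth.L22.CurveDeg.nonempty_stalk_equiv hP y
  obtain ⟨b⟩ := nonempty_stalk_equiv_at hy eU
  haveI := (Groth.L00.Sky.adj y).isLeftAdjoint
  haveI : ∀ A B : Y.Modules, PreservesBinaryBiproduct A B (Groth.L00.Stk.F Y y) := fun A B =>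
    preservesBinaryBiproduct_of_preservesBinaryCoproduct _
  let c := ((Groth.L00.Stk.F Y y).mapIso φ ≪≫ (Groth.L00.Stk.F Y y).mapBiprod _ _ ≪≫
    ModuleCat.biprodIsoProd _ _).toLinearEquiv
  obtain ⟨o⟩ := Groth.L22.CurveDeg.nonempty_stalk_equiv
    (Groth.L21.Bundle.locFree_one (Groth.L18.Ample.isInvertible_structureModule Y)) y
  have key : (Fin (d + 1) → Y.presheaf.stalk y) ≃ₗ[Y.presheaf.stalk y]
      ((Fin 1 → Y.presheaf.stalk y) × (Fin m → Y.presheaf.stalk y)) :=
    a ≪≫ₗ c ≪≫ₗ (o.prodCongr b).symm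
  have hfin := key.finrank_eq
  rw [Module.finrank_prod, Module.finrank_fin_fun, Module.finrank_fin_fun, Module.finrank_fin_fun] at hfin
  obtain rfl : m = d := by omega
  exact ⟨eU⟩

end Groth.L02.EtEuler
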